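import Groth.Agent.SepPtsLib.Basic
import Groth.Agent.GrpEasyLib.Quot
import Groth.Agent.MonoFibre.SchemeImage
import Groth.Agent.MonoFibre.AntiAffine
import Groth.Prelude.Def_AlgGrp

/-! Almost homogeneous actions: the open orbit. -/

set_option autoImplicit false
set_option backward.isDefEq.respectTransparency false
set_option backward.isDefEq.respectTransparency.types false
universe u
open CategoryTheory MonoidalCategory CartesianMonoidalCategory MonObj AlgebraicGeometry Limits

namespace Groth.Agent.AlmostHomLib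

variable {k K : Type u} [Field k] [Field K] [Algebra k K]

local notation "Sk" => Spec (CommRingCat.of k)
local notation "PK" => Over.mk (Spec.map (CommRingCat.ofHom (algebraMap k K)))

/-- The image of a `K`-point. -/
noncomputable def img {X : Over Sk} (x : PK ⟶ X) : X.left := x.left (IsLocalRing.closedPoint K)

theorem img_comp {X Y : Over Sk} (x : PK ⟶ X) (f : X ⟶ Y) : img (x ≫ f) = f.left (img x) := rfl

/-- A `K`-point in the image of an open set lifts into it. -/
theorem exists_lift_pt [IsAlgClosed K] {X Y : Over Sk} [LocallyOfFiniteType X.hom] [LocallyOfFiniteType Y.hom]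
    (f : X ⟶ Y) (W : X.left.Opens) (y : PK ⟶ Y) (hy : img y ∈ f.left '' W) :
    ∃ x : PK ⟶ X, x ≫ f = y ∧ img x ∈ W := by
  haveI : LocallyOfFiniteType (f.left ≫ Y.hom) := by rw [Over.w f]; infer_instance
  haveI : LocallyOfFiniteType f.left := locallyOfFiniteType_of_comp f.left Y.hom
  let F : Over (Spec (CommRingCat.of K)) := Over.mk (pullback.snd f.left y.left)
  haveI : LocallyOfFiniteType F.hom := inferInstanceAs (LocallyOfFiniteType (pullback.snd f.left y.left))
  haveI : JacobsonSpace F.left := LocallyOfFiniteType.jacobsonSpace F.hom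
  obtain ⟨x₀, hx₀, hfx⟩ := hy
  obtain ⟨z₀, hz₀, -⟩ := Scheme.Pullback.exists_preimage_pullback (f := f.left) (g := y.left) x₀
    (IsLocalRing.closedPoint K) hfx
  obtain ⟨z, hzW, hz⟩ := nonempty_inter_closedPoints (Z := ((pullback.fst f.left y.left) ⁻¹' W : Set F.left))
    ⟨z₀, by show _ ∈ (W : Set X.left); rw [hz₀]; exact hx₀⟩
    (W.2.preimage (pullback.fst f.left y.left).continuous).isLocallyClosed
  obtain ⟨p, hp⟩ := SepPtsLib.exists_pt_of_closed (k := K) (K := K) z hz
  have hp' : p.left ≫ pullback.snd f.left y.left = 𝟙 _ := (Over.w p).trans (by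
    show Spec.map (CommRingCat.ofHom (RingHom.id K)) = _
    simp)
  refine ⟨Over.homMk (p.left ≫ pullback.fst f.left y.left) ?_, ?_, ?_⟩
  · rw [← Over.w f, Category.assoc, pullback.condition_assoc, Over.w y, reassoc_of% hp']
  · apply Over.OverMorphism.ext
    show (p.left ≫ pullback.fst f.left y.left) ≫ f.left = y.left
    rw [Category.assoc, pullback.condition, reassoc_of% hp']
  · show (pullback.fst f.left y.left) (p.left (IsLocalRing.closedPoint K)) ∈ (W : Set X.left)
    rw [hp]
    exact hzW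

/-- Nonempty open sets of an algebraic scheme contain `K`-points. -/
theorem exists_pt_mem [IsAlgClosed K] {X : Over Sk} [LocallyOfFiniteType X.hom] (W : Set X.left) (hW : IsOpen W)
    (hne : W.Nonempty) : ∃ x : PK ⟶ X, img x ∈ W := by
  haveI : JacobsonSpace X.left := LocallyOfFiniteType.jacobsonSpace X.hom
  obtain ⟨z, hzW, hz⟩ := nonempty_inter_closedPoints hne hW.isLocallyClosed
  obtain ⟨p, hp⟩ := SepPtsLib.exists_pt_of_closed (K := K) z hz
  exact ⟨p, by show p.left _ ∈ W; rw [hp]; exact hzW⟩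

/-- Open sets of an algebraic scheme are compared on `K`-points. -/
theorem subset_of_pts [IsAlgClosed K] {X : Over Sk} [LocallyOfFiniteType X.hom] {U U' : X.left.Opens}
    (h : ∀ x : PK ⟶ X, img x ∈ U → img x ∈ U') : U ≤ U' := by
  haveI : JacobsonSpace X.left := LocallyOfFiniteType.jacobsonSpace X.hom
  intro y hy
  by_contra hy'
  obtain ⟨z, ⟨hzU, hzU'⟩, hz⟩ := nonempty_inter_closedPoints (Z := ((U : Set X.left) ∩ (U' : Set X.left)ᶜ))
    ⟨y, hy, hy'⟩ (U.2.isLocallyClosed.inter U'.2.isClosed_compl.isLocallyClosed)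
  obtain ⟨p, hp⟩ := SepPtsLib.exists_pt_of_closed (K := K) z hz
  have hp' : img p = z := hp _
  exact hzU' (hp' ▸ h p (hp' ▸ hzU))

variable {G X : Over (Spec (CommRingCat.of k))} [GrpObj G] [LocallyOfFiniteType G.hom] [LocallyOfFiniteType X.hom] (a : AlgGrp.Action G X)

/-- If the graph morphism is dominant, there is a non-empty open on whose points the group is transitive. -/
theorem exists_open_transitive [IsAlgClosed K] [QuasiCompact G.hom] [QuasiCompact X.hom]
    [GeometricallyIntegral X.hom] (hdom : IsDominant (lift (snd G X) a.act).left) :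
    ∃ V : X.left.Opens, (V : Set X.left).Nonempty ∧ ∀ x y : PK ⟶ X, img x ∈ V → img y ∈ V →
      ∃ g : PK ⟶ G, lift g x ≫ a.act = y := by
  let σ : G ⊗ X ⟶ X ⊗ X := lift (snd G X) a.act
  haveI : LocallyOfFiniteType (G ⊗ X).hom := by rw [Over.tensorObj_hom]; infer_instance
  haveI : QuasiCompact (G ⊗ X).hom := by rw [Over.tensorObj_hom]; infer_instance
  haveI : LocallyOfFiniteType (X ⊗ X).hom := by rw [Over.tensorObj_hom]; infer_instance
  haveI : QuasiCompact (X ⊗ X).hom := by rw [Over.tensorObj_hom]; infer_instance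
  haveI : IsLocallyNoetherian (X ⊗ X).left := LocallyOfFiniteType.isLocallyNoetherian (X ⊗ X).hom
  haveI : QuasiSeparated (X ⊗ X).hom := inferInstance
  haveI : QuasiCompact (σ.left ≫ (X ⊗ X).hom) := by rw [Over.w σ]; infer_instance
  haveI : QuasiCompact σ.left := QuasiCompact.of_comp σ.left (X ⊗ X).hom
  haveI : LocallyOfFiniteType (σ.left ≫ (X ⊗ X).hom) := by rw [Over.w σ]; infer_instance
  haveI : LocallyOfFiniteType σ.left := locallyOfFiniteType_of_comp σ.left (X ⊗ X).hom
  haveI : LocallyOfFinitePresentation σ.left := inferInstance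
  haveI : IsDominant σ.left := hdom
  have hc : Topology.IsLocallyConstructible (Set.range σ.left) := by
    rw [← Set.image_univ]
    exact σ.left.isLocallyConstructible_image Topology.IsConstructible.univ.isLocallyConstructible
  have hd := MonoFibre.SchemeImage.dense_interior_of_isLocallyConstructible hc (Scheme.Hom.denseRange σ.left)
  haveI : IsIntegral X.left := GeometricallyIntegral.isIntegral_of_subsingleton X.hom
  haveI : UniversallyOpen (fst X X).left :=
    MorphismProperty.of_isPullback (P := @UniversallyOpen)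
      (GrpSchLib.isPullback_fst_snd (T := X) (G := X)).flip (inferInstance : UniversallyOpen X.hom)
  let W : (X ⊗ X).left.Opens := ⟨interior (Set.range σ.left), isOpen_interior⟩
  have hWne : (W : Set (X ⊗ X).left).Nonempty := by
    refine hd.nonempty_iff.mpr ?_
    exact ⟨(lift (𝟙 X) (𝟙 X)).left (genericPoint X.left)⟩
  let V : X.left.Opens := ⟨(fst X X).left '' W, (fst X X).left.isOpenMap _ W.2⟩
  refine ⟨V, hWne.image _, fun x y hx hy => ?_⟩
  have hirr : IrreducibleSpace (PK ⊗ X).left := by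
    have := GeometricallyIntegral.geometrically_isIntegral (f := X.hom) _ _ _
      (GrpSchLib.isPullback_fst_snd (T := PK) (G := X)).flip
    infer_instance
  have hopen : ∀ x : PK ⟶ X, img x ∈ V → IsOpen ((x ▷ X).left ⁻¹' W) ∧ ((x ▷ X).left ⁻¹' W).Nonempty := by
    intro x hx
    refine ⟨W.2.preimage (x ▷ X).left.continuous, ?_⟩
    obtain ⟨w, hw, hwx⟩ := hx
    obtain ⟨t, ht, -⟩ := Scheme.exists_preimage_of_isPullback
      (GrpEasyLib.isPullback_whiskerRight (Z := X) x) w (IsLocalRing.closedPoint K) hwx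
    exact ⟨t, by show (x ▷ X).left t ∈ (W : Set (X ⊗ X).left); rw [ht]; exact hw⟩
  obtain ⟨t, htx, hty⟩ := nonempty_preirreducible_inter (hopen x hx).1 (hopen y hy).1 (hopen x hx).2 (hopen y hy).2
  haveI : LocallyOfFiniteType (pullback.fst (PK).hom X.hom) := inferInstance
  obtain ⟨q, hq⟩ : ∃ q : PK ⟶ X, img (lift x q) ∈ W ∧ img (lift y q) ∈ W := by
    haveI : LocallyOfFiniteType (fst PK X).left := inferInstanceAs (LocallyOfFiniteType (pullback.fst (PK).hom X.hom))
    let F : Over (Spec (CommRingCat.of K)) := Over.mk (fst PK X).left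
    haveI : LocallyOfFiniteType F.hom := ‹LocallyOfFiniteType (fst PK X).left›
    haveI : JacobsonSpace F.left := LocallyOfFiniteType.jacobsonSpace F.hom
    haveI : JacobsonSpace (PK ⊗ X).left := ‹JacobsonSpace F.left›
    obtain ⟨z, ⟨hzx, hzy⟩, hz⟩ := nonempty_inter_closedPoints
      (Z := (((x ▷ X).left ⁻¹' W ∩ (y ▷ X).left ⁻¹' W : Set _) : Set F.left)) ⟨t, htx, hty⟩
      (((hopen x hx).1.inter (hopen y hy).1).isLocallyClosed)
    obtain ⟨p, hp⟩ := SepPtsLib.exists_pt_of_closed (k := K) (K := K) (X := F) z hz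
    have hp1 : p.left ≫ (fst PK X).left = 𝟙 _ := (Over.w p).trans (by
      show Spec.map (CommRingCat.ofHom (RingHom.id K)) = _
      simp)
    let p' : PK ⟶ PK ⊗ X := Over.homMk p.left (by
      rw [← Over.w (fst PK X), ← Category.assoc, hp1]; exact Category.id_comp _)
    have hp'1 : p' ≫ fst PK X = 𝟙 _ := Over.OverMorphism.ext hp1
    have key : ∀ x : PK ⟶ X, lift x (p' ≫ snd PK X) = p' ≫ (x ▷ X) := fun x => by
      apply CartesianMonoidalCategory.hom_ext
      · rw [lift_fst, Category.assoc, whiskerRight_fst, reassoc_of% hp'1]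
      · rw [lift_snd, Category.assoc, whiskerRight_snd]
    refine ⟨p' ≫ snd PK X, ?_, ?_⟩ <;> rw [key, img_comp]
    · show (x ▷ X).left (p.left _) ∈ (W : Set (X ⊗ X).left)
      rw [hp]; exact hzx
    · show (y ▷ X).left (p.left _) ∈ (W : Set (X ⊗ X).left)
      rw [hp]; exact hzy
  have orb : ∀ x z : PK ⟶ X, img (lift x z) ∈ W → ∃ g : PK ⟶ G, lift g x ≫ a.act = z := by
    intro x z h
    obtain ⟨w, hw⟩ := interior_subset (show img (lift x z) ∈ interior (Set.range σ.left) from h)
    obtain ⟨u, hu, -⟩ := exists_lift_pt σ ⊤ (lift x z) ⟨w, trivial, hw⟩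
    have h1 : u ≫ snd G X = x := by simpa [σ] using congrArg (· ≫ fst X X) hu
    have h2 : u ≫ a.act = z := by simpa [σ] using congrArg (· ≫ snd X X) hu
    refine ⟨u ≫ fst G X, ?_⟩
    rw [← h1, ← comp_lift, lift_fst_snd, Category.comp_id, h2]
  obtain ⟨g, hg⟩ := orb x q hq.1
  obtain ⟨h, hh⟩ := orb y q hq.2
  refine ⟨h⁻¹ * g, ?_⟩
  rw [a.lift_mul_act, hg, ← hh, ← a.lift_mul_act, inv_mul_cancel, a.lift_one_act]

/-- The restriction of an action to a stable open. -/
theorem exists_restrict (U : X.left.Opens)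
    (hst : a.act.left '' ((snd G X).left ⁻¹' U) ⊆ U) :
    ∃ b : AlgGrp.Action G (Over.mk (U.ι ≫ X.hom)),
      (G ◁ (Over.homMk U.ι rfl : Over.mk (U.ι ≫ X.hom) ⟶ X)) ≫ a.act = b.act ≫ Over.homMk U.ι rfl := by
  let XU := Over.mk (U.ι ≫ X.hom)
  let j : XU ⟶ X := Over.homMk U.ι rfl
  let f : G ⊗ XU ⟶ X := (G ◁ j) ≫ a.act
  have hr : Set.range f.left ⊆ Set.range U.ι := by
    rw [Scheme.Opens.range_ι]
    rintro _ ⟨p, rfl⟩
    refine hst ⟨(G ◁ j).left p, ?_, rfl⟩
    show ((G ◁ j).left ≫ (snd G X).left) p ∈ (U : Set X.left)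
    rw [← Over.comp_left, whiskerLeft_snd, Over.comp_left]
    exact ((snd G XU).left p).2
  let b : G ⊗ XU ⟶ XU := Over.homMk (IsOpenImmersion.lift U.ι f.left hr) (by
    show _ ≫ U.ι ≫ X.hom = _
    rw [IsOpenImmersion.lift_fac_assoc]
    exact Over.w f)
  have hb : b ≫ j = f := Over.OverMorphism.ext (IsOpenImmersion.lift_fac U.ι f.left hr)
  haveI : IsOpenImmersion j.left := inferInstanceAs (IsOpenImmersion U.ι)
  haveI : Mono j := Over.mono_of_mono_left j
  refine ⟨⟨b, ?_, ?_⟩, hb.symm⟩
  · rw [← cancel_mono j, Category.assoc, hb]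
    simp only [f]
    rw [← whisker_exchange_assoc, a.one_act, leftUnitor_naturality]
  · rw [← cancel_mono j, Category.assoc, hb]
    simp only [f, Category.assoc, hb]
    rw [← whisker_exchange_assoc, a.mul_act, ← Category.assoc (G ◁ b), ← MonoidalCategory.whiskerLeft_comp, hb]
    simp only [f, MonoidalCategory.whiskerLeft_comp, Category.assoc]
    rw [associator_naturality_right_assoc]

end Groth.Agent.AlmostHomLib
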